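import Groth.Agent.H1Compl.Tensor
import Groth.Agent.S7049
import Mathlib.RingTheory.Filtration
import Mathlib.RingTheory.AdicCompletion.Functoriality
import Mathlib.LinearAlgebra.TensorProduct.Pi

/-! `N^ ⊗ M` is the adic completion of `N ⊗ M`. -/

set_option linter.style.haveILetI false

universe u

open CategoryTheory
open scoped TensorProduct

attribute [local instance] HasDerivedCategory.standard

namespace Groth.Agent.H1Compl

open Groth.Agent.H9Misc

variable {A : Type u} [CommRing A] (I : Ideal A)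

theorem map_bijective_of_levels {P Q : Type u} [AddCommGroup P] [Module A P] [AddCommGroup Q] [Module A Q]
    (ψ : P →ₗ[A] Q) (h₁ : ∀ n x, ψ x ∈ (I ^ n • ⊤ : Submodule A Q) → x ∈ (I ^ n • ⊤ : Submodule A P))
    (h₂ : ∀ n y, ∃ x, y - ψ x ∈ (I ^ n • ⊤ : Submodule A Q)) :
    Function.Bijective (AdicCompletion.map I ψ) := by
  have hinj : ∀ n, Function.Injective (ψ.reduceModIdeal (I ^ n)) := fun n => (injective_iff_map_eq_zero _).2 fun z hz => by
    obtain ⟨x, rfl⟩ := Submodule.Quotient.mk_surjective _ z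
    exact (Submodule.Quotient.mk_eq_zero _).2 (h₁ n x ((Submodule.Quotient.mk_eq_zero _).1 hz))
  have hsurj : ∀ n, Function.Surjective (ψ.reduceModIdeal (I ^ n)) := fun n z => by
    obtain ⟨y, rfl⟩ := Submodule.Quotient.mk_surjective _ z
    obtain ⟨x, hx⟩ := h₂ n y
    exact ⟨Submodule.Quotient.mk x, ((Submodule.Quotient.eq _).2 hx).symm⟩
  refine ⟨fun a b hab => AdicCompletion.ext fun n => hinj n ?_, fun y => ?_⟩
  · rw [← AdicCompletion.map_val_apply, ← AdicCompletion.map_val_apply, hab]
  · choose x hx using fun n => hsurj n (y.val n)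
    refine ⟨⟨x, fun {m n} hmn => hinj m ?_⟩, AdicCompletion.ext fun n => hx n⟩
    rw [hx m, ← y.2 hmn, ← hx n]
    obtain ⟨v, hv⟩ := Submodule.Quotient.mk_surjective _ (x n)
    rw [← hv]
    rfl

theorem levels_of_rTensor (J : Ideal A) {P Q : Type u} [AddCommGroup P] [Module A P] [AddCommGroup Q] [Module A Q]
    (ψ : P →ₗ[A] Q) (h : Function.Bijective (ψ.rTensor (A ⧸ J))) :
    (∀ x, ψ x ∈ (J • ⊤ : Submodule A Q) → x ∈ (J • ⊤ : Submodule A P)) ∧
      ∀ y, ∃ x, y - ψ x ∈ (J • ⊤ : Submodule A Q) := by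
  have key : ∀ (X : Type u) [AddCommGroup X] [Module A X] (x : X),
      x ⊗ₜ[A] (1 : A ⧸ J) = 0 ↔ x ∈ (J • ⊤ : Submodule A X) := fun X _ _ x => by
    rw [← (TensorProduct.tensorQuotEquivQuotSMul X J).map_eq_zero_iff, ← Submodule.Quotient.mk_eq_zero]
    exact Eq.congr_left (TensorProduct.tensorQuotEquivQuotSMul_tmul_mk J x (1 : A) |>.trans (by rw [one_smul]))
  refine ⟨fun x hx => (key P x).1 (h.1 ?_), fun y => ?_⟩
  · rw [map_zero, LinearMap.rTensor_tmul, (key Q (ψ x)).2 hx]
  · obtain ⟨z, hz⟩ := h.2 (y ⊗ₜ[A] (1 : A ⧸ J))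
    obtain ⟨x, rfl⟩ : ∃ x : P, x ⊗ₜ[A] (1 : A ⧸ J) = z := by
      obtain ⟨w, hw⟩ := Submodule.Quotient.mk_surjective _ ((TensorProduct.tensorQuotEquivQuotSMul P J) z)
      refine ⟨w, (TensorProduct.tensorQuotEquivQuotSMul P J).injective ?_⟩
      exact ((TensorProduct.tensorQuotEquivQuotSMul_tmul_mk J w (1 : A)).trans (by rw [one_smul])).trans hw
    refine ⟨x, (key Q _).1 ?_⟩
    rw [TensorProduct.sub_tmul, ← hz, LinearMap.rTensor_tmul, sub_self]

variable [IsNoetherianRing A]

theorem rTensor_eta_bijective (N : Type u) [AddCommGroup N] [Module A N] (n : ℕ) :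
    Function.Bijective ((AdicCompletion.of I N).rTensor (A ⧸ I ^ n)) := by
  have hker : (I ^ n • ⊤ : Submodule A (AdicCompletion I N)) = LinearMap.ker (AdicCompletion.eval I N n) :=
    AdicCompletion.pow_smul_top_eq_ker_eval (IsNoetherian.noetherian I)
  refine DRingAdic.bijective_rTensor_quotient (I ^ n) _ (fun x hx => ?_) fun y => ?_
  · rw [hker, LinearMap.mem_ker] at hx
    exact (Submodule.Quotient.mk_eq_zero _).1 (by simpa using hx)
  · obtain ⟨x, hx⟩ := Submodule.Quotient.mk_surjective _ (AdicCompletion.eval I N n y)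
    refine ⟨x, ?_⟩
    rw [hker, LinearMap.mem_ker, map_sub, sub_eq_zero]
    exact hx.symm

theorem map_eta_tensor_bijective (N M : Type u) [AddCommGroup N] [Module A N] [AddCommGroup M] [Module A M] :
    Function.Bijective (AdicCompletion.map I ((AdicCompletion.of I N).rTensor M)) := by
  have h : ∀ n, Function.Bijective (((AdicCompletion.of I N).rTensor M).rTensor (A ⧸ I ^ n)) := fun n => by
    have hb : Function.Bijective (((AdicCompletion.of I N).rTensor (A ⧸ I ^ n)).rTensor M) :=
      (LinearEquiv.rTensor M (LinearEquiv.ofBijective _ (rTensor_eta_bijective I N n))).bijective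
    have e : ((AdicCompletion.of I N).rTensor M).rTensor (A ⧸ I ^ n) =
        (TensorProduct.rightComm A _ _ _).toLinearMap ∘ₗ ((AdicCompletion.of I N).rTensor (A ⧸ I ^ n)).rTensor M ∘ₗ
          (TensorProduct.rightComm A _ _ _).toLinearMap := TensorProduct.ext_threefold fun a b c => by simp
    rw [e, LinearMap.coe_comp, LinearMap.coe_comp]
    exact (LinearEquiv.bijective _).comp (hb.comp (LinearEquiv.bijective _))
  exact map_bijective_of_levels I _ (fun n => (levels_of_rTensor (I ^ n) _ (h n)).1)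
    (fun n => (levels_of_rTensor (I ^ n) _ (h n)).2)

theorem range_lTensor_subtype_le (J : Ideal A) (L K : Type u) [AddCommGroup L] [Module A L] [AddCommGroup K] [Module A K] :
    LinearMap.range ((J • ⊤ : Submodule A K).subtype.lTensor L) ≤ (J • ⊤ : Submodule A (L ⊗[A] K)) := by
  rintro _ ⟨z, rfl⟩
  induction z using TensorProduct.induction_on with
  | zero => simp
  | add a b ha hb => rw [map_add]; exact add_mem ha hb
  | tmul l x =>
    rw [LinearMap.lTensor_tmul, Submodule.subtype_apply]
    have hx : ((x : K)) ∈ Submodule.comap (TensorProduct.mk A L K l) (J • ⊤ : Submodule A (L ⊗[A] K)) := by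
      refine Submodule.smul_le.2 (fun r hr y _ => ?_) x.2
      rw [Submodule.mem_comap, map_smul]
      exact Submodule.smul_mem_smul hr Submodule.mem_top
    exact hx

theorem lTensor_mkQ_eq_zero {L F : Type u} [AddCommGroup L] [Module A L] [AddCommGroup F] [Module A F] (J : Ideal A)
    {v : L ⊗[A] F} (hv : v ∈ (J • ⊤ : Submodule A (L ⊗[A] F))) :
    (J • ⊤ : Submodule A F).mkQ.lTensor L v = 0 := by
  refine (show (J • ⊤ : Submodule A (L ⊗[A] F)) ≤ LinearMap.ker ((J • ⊤ : Submodule A F).mkQ.lTensor L) from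
    Submodule.smul_le.2 fun r hr y hy' => ?_) hv
  clear hy'
  rw [LinearMap.mem_ker, map_smul]
  induction y using TensorProduct.induction_on with
  | zero => simp
  | add a b ha hb => rw [map_add, smul_add, ha, hb, add_zero]
  | tmul l x =>
    rw [LinearMap.lTensor_tmul, ← TensorProduct.tmul_smul, ← map_smul, Submodule.mkQ_apply,
      (Submodule.Quotient.mk_eq_zero _).2 (Submodule.smul_mem_smul hr Submodule.mem_top), TensorProduct.tmul_zero]

theorem isHausdorff_tensor_pi (L : Type u) [AddCommGroup L] [Module A L] [IsHausdorff I L] (k : ℕ) :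
    IsHausdorff I (L ⊗[A] (Fin k → A)) := by
  refine ⟨fun x hx => (TensorProduct.piScalarRight A A L (Fin k)).injective ?_⟩
  rw [map_zero]
  funext j
  refine IsHausdorff.haus' (I := I) _ fun n => ?_
  have h1 := Submodule.mem_map_of_mem (f := (LinearMap.proj j).comp (TensorProduct.piScalarRight A A L (Fin k)).toLinearMap)
    (SModEq.zero.1 (hx n))
  rw [Submodule.map_smul''] at h1
  exact SModEq.zero.2 (Submodule.smul_mono le_rfl le_top h1)

variable [DRing.HasDerivedCompletion I]

/-- `N^ ⊗ M` is adically complete. -/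
theorem isAdicComplete_tensor (N M : Type u) [AddCommGroup N] [Module A N] [Module.Flat A N]
    [AddCommGroup M] [Module A M] [Module.Finite A M] :
    IsAdicComplete I (AdicCompletion I N ⊗[A] M) := by
  have hfg : I.FG := IsNoetherian.noetherian I
  haveI := flat_completion I N
  haveI : IsAdicComplete I (AdicCompletion I N) := AdicCompletion.isAdicComplete hfg
  have hpre : ∀ (K : Type u) [AddCommGroup K] [Module A K] [Module.Finite A K],
      IsPrecomplete I (AdicCompletion I N ⊗[A] K) := fun K _ _ _ =>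
    AdicCompletion.of_surjective_iff.1 (Groth.Agent.S7049.result I hfg _ (tensor_completion I N K).1)
  haveI := hpre M
  obtain ⟨k, p, hp⟩ := Module.Finite.exists_fin' A M
  let K := LinearMap.ker p
  let L := AdicCompletion I N
  let i : L ⊗[A] K →ₗ[A] L ⊗[A] (Fin k → A) := K.subtype.lTensor L
  haveI := hpre K
  haveI := isHausdorff_tensor_pi I L k
  obtain ⟨c, hc⟩ := Ideal.exists_pow_inf_eq_pow_smul I K
  have key : ∀ (m : ℕ) (y : L ⊗[A] K), i y ∈ (I ^ (m + c) • ⊤ : Submodule A (L ⊗[A] (Fin k → A))) →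
      y ∈ (I ^ m • ⊤ : Submodule A (L ⊗[A] K)) := fun m y hy => by
    let q := (I ^ (m + c) • ⊤ : Submodule A (Fin k → A)).mkQ.comp K.subtype
    have h0 : q.lTensor L y = 0 := by
      rw [LinearMap.lTensor_comp, LinearMap.comp_apply]
      exact lTensor_mkQ_eq_zero _ hy
    obtain ⟨z, rfl⟩ := (Module.Flat.lTensor_exact L (N := ↥(LinearMap.ker q)) (N' := ↥K)
      (N'' := (Fin k → A) ⧸ (I ^ (m + c) • ⊤ : Submodule A (Fin k → A)))
      (LinearMap.exact_subtype_ker_map q) y).1 h0
    have hle : LinearMap.ker q ≤ (I ^ m • ⊤ : Submodule A K) := fun x hx => by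
      have hx1 : (x : Fin k → A) ∈ I ^ (m + c) • (⊤ : Submodule A (Fin k → A)) ⊓ K :=
        ⟨(Submodule.Quotient.mk_eq_zero _).1 hx, x.2⟩
      rw [hc (m + c) (by omega), Nat.add_sub_cancel] at hx1
      have hx2 : (x : Fin k → A) ∈ Submodule.map K.subtype (I ^ m • ⊤ : Submodule A K) := by
        rw [Submodule.map_smul'', Submodule.map_subtype_top]
        exact Submodule.smul_mono le_rfl inf_le_right hx1
      obtain ⟨x', hx', hxx⟩ := hx2
      rwa [← Subtype.ext (hxx : (x' : Fin k → A) = x)]
    refine range_lTensor_subtype_le (I ^ m) L K ⟨(Submodule.inclusion hle).lTensor L z, ?_⟩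
    rw [← LinearMap.comp_apply, ← LinearMap.lTensor_comp]
    rfl
  haveI : IsHausdorff I (L ⊗[A] M) := ⟨fun z hz => by
    obtain ⟨w, rfl⟩ := LinearMap.lTensor_surjective L hp z
    have hex : Function.Exact (K.subtype.lTensor L) (p.lTensor L) :=
      lTensor_exact L (LinearMap.exact_subtype_ker_map p) hp
    have hs : ∀ n, ∃ y, w - i y ∈ (I ^ (n + c) • ⊤ : Submodule A (L ⊗[A] (Fin k → A))) := fun n => by
      have h1 : p.lTensor L w ∈ Submodule.map (p.lTensor L) (I ^ (n + c) • ⊤) := by
        rw [Submodule.map_smul'', Submodule.map_top, LinearMap.range_eq_top.2 (LinearMap.lTensor_surjective L hp)]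
        exact SModEq.zero.1 (hz (n + c))
      obtain ⟨v, hv, hvw⟩ := h1
      obtain ⟨y, hy⟩ := (hex (w - v)).1 (by rw [map_sub, hvw, sub_self])
      refine ⟨y, ?_⟩
      show w - K.subtype.lTensor L y ∈ _
      rwa [hy, sub_sub_cancel]
    choose s hs using hs
    obtain ⟨l, hl⟩ := IsPrecomplete.prec' (I := I) s fun {a b} hab => by
      rw [SModEq.sub_mem]
      refine key a _ ?_
      have hb := Submodule.smul_mono (Ideal.pow_le_pow_right (show a + c ≤ b + c by omega)) le_rfl (hs b)
      convert sub_mem hb (hs a) using 1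
      rw [map_sub]; abel
    have hw : w = i l := by
      refine sub_eq_zero.1 (IsHausdorff.haus' (I := I) _ fun n => ?_)
      rw [SModEq.zero]
      have h1 : i (s n) - i l ∈ (I ^ n • ⊤ : Submodule A (L ⊗[A] (Fin k → A))) := by
        rw [← map_sub]
        refine Submodule.smul_mono le_rfl le_top ((Submodule.map_smul'' (I ^ n) ⊤ i).le
          (Submodule.mem_map_of_mem (SModEq.sub_mem.1 (hl n))))
      have h2 := Submodule.smul_mono (Ideal.pow_le_pow_right (show n ≤ n + c by omega)) le_rfl (hs n)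
      convert add_mem h2 h1 using 1
      abel
    rw [hw]
    exact hex.apply_apply_eq_zero l⟩
  exact { }

/-- A reflection by an adically complete module computes the derived completion. -/
theorem derivedCompletion_of_preBij (P Q : Type u) [AddCommGroup P] [Module A P] [AddCommGroup Q] [Module A Q]
    [IsAdicComplete I Q] (ψ : P →ₗ[A] Q) (hψb : Function.Bijective (AdicCompletion.map I ψ))
    (hc : DRing.IsDerivedComplete I (Dual.inD A Q))
    (hψ : PreBij I ((DerivedCategory.singleFunctor (ModuleCat.{u} A) 0).map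
      (ModuleCat.ofHom ψ : ModuleCat.of A P ⟶ ModuleCat.of A Q))) :
    (∀ i : ℤ, i ≠ 0 → Subsingleton (Dual.HD A ((DRing.derivedCompletion I).obj (Dual.inD A P)).obj i)) ∧
      ∃ e : Dual.HD A ((DRing.derivedCompletion I).obj (Dual.inD A P)).obj 0 ≃ₗ[A] AdicCompletion I P,
        ∀ x : P,
          e ((((DerivedCategory.singleFunctorCompHomologyFunctorIso (ModuleCat.{u} A) 0).inv.app (ModuleCat.of A P)) ≫
              (DerivedCategory.homologyFunctor (ModuleCat.{u} A) 0).map
                (DRing.toDerivedCompletion I (Dual.inD A P))).hom x) =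
            AdicCompletion.of I P x := by
  let F := DerivedCategory.singleFunctor (ModuleCat.{u} A) 0
  let H := DerivedCategory.homologyFunctor (ModuleCat.{u} A) 0
  let σ := DerivedCategory.singleFunctorCompHomologyFunctorIso (ModuleCat.{u} A) 0
  obtain ⟨θ, hθ⟩ := exists_reflection_iso I (DRing.toDerivedCompletion I (Dual.inD A P))
    (F.map (ModuleCat.ofHom ψ)) ((DRing.derivedCompletion I).obj _).property hc (preBij_toDerivedCompletion I _) hψ
  refine ⟨fun i hi => ?_, ?_⟩
  · have := DRingTel.subsingleton_homology_inD (A := A) Q hi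
    exact ((DerivedCategory.homologyFunctor (ModuleCat.{u} A) i).mapIso θ).toLinearEquiv.toEquiv.subsingleton
  let Ψ : AdicCompletion I P ≃ₗ[A] AdicCompletion I Q :=
    LinearEquiv.ofBijective ((AdicCompletion.map I ψ).restrictScalars A) hψb
  let e₁ : Dual.HD A ((DRing.derivedCompletion I).obj (Dual.inD A P)).obj 0 ≃ₗ[A] Q :=
    (H.mapIso θ ≪≫ σ.app (ModuleCat.of A Q)).toLinearEquiv
  refine ⟨e₁.trans ((LinearEquiv.ofBijective (AdicCompletion.of I Q) (AdicCompletion.of_bijective_iff.2 ‹_›)).trans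
    Ψ.symm), fun x => ?_⟩
  have h : (σ.inv.app (ModuleCat.of A P) ≫ H.map (DRing.toDerivedCompletion I (Dual.inD A P))) ≫
      (H.map θ.hom ≫ σ.hom.app (ModuleCat.of A Q)) = ModuleCat.ofHom ψ := by
    have hn : H.map (F.map (ModuleCat.ofHom ψ)) ≫ σ.hom.app (ModuleCat.of A Q) =
        σ.hom.app (ModuleCat.of A P) ≫ ModuleCat.ofHom ψ := σ.hom.naturality (ModuleCat.ofHom ψ)
    rw [Category.assoc, ← H.map_comp_assoc, hθ, hn]
    exact σ.inv_hom_id_app_assoc _ _
  have hx := ConcreteCategory.congr_hom h x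
  rw [LinearEquiv.trans_apply, LinearEquiv.trans_apply, LinearEquiv.symm_apply_eq]
  refine (congrArg (AdicCompletion.of I Q) hx).trans ?_
  exact (AdicCompletion.map_of I ψ x).symm

/-- The derived completion of `M ⊗ N`. -/
theorem derivedCompletion_tensor (M N : Type u) [AddCommGroup M] [Module A M] [Module.Finite A M]
    [AddCommGroup N] [Module A N] [Module.Flat A N] :
    (∀ i : ℤ, i ≠ 0 → Subsingleton (Dual.HD A ((DRing.derivedCompletion I).obj (Dual.inD A (M ⊗[A] N))).obj i)) ∧
      ∃ e : Dual.HD A ((DRing.derivedCompletion I).obj (Dual.inD A (M ⊗[A] N))).obj 0 ≃ₗ[A]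
          AdicCompletion I (M ⊗[A] N),
        ∀ x : M ⊗[A] N,
          e ((((DerivedCategory.singleFunctorCompHomologyFunctorIso (ModuleCat.{u} A) 0).inv.app
                (ModuleCat.of A (M ⊗[A] N))) ≫
              (DerivedCategory.homologyFunctor (ModuleCat.{u} A) 0).map
                (DRing.toDerivedCompletion I (Dual.inD A (M ⊗[A] N)))).hom x) =
            AdicCompletion.of I (M ⊗[A] N) x := by
  obtain ⟨hc, hb⟩ := tensor_completion I N M
  haveI := isAdicComplete_tensor I N M
  refine derivedCompletion_of_preBij I (M ⊗[A] N) (AdicCompletion I N ⊗[A] M)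
    ((AdicCompletion.of I N).rTensor M ∘ₗ (TensorProduct.comm A M N).toLinearMap) ?_ hc ?_
  · rw [← AdicCompletion.map_comp, LinearMap.coe_comp]
    exact (map_eta_tensor_bijective I N M).comp (AdicCompletion.congr I (TensorProduct.comm A M N)).bijective
  · intro E hE
    let c : ModuleCat.of A (M ⊗[A] N) ≅ ModuleCat.of A (N ⊗[A] M) := (TensorProduct.comm A M N).toModuleIso
    let F := DerivedCategory.singleFunctor (ModuleCat.{u} A) 0
    have h1 : Function.Bijective fun g : F.obj (ModuleCat.of A (N ⊗[A] M)) ⟶ E => F.map c.hom ≫ g :=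
      ⟨fun g g' h => (cancel_epi (F.map c.hom)).1 h,
        fun g => ⟨inv (F.map c.hom) ≫ g, IsIso.hom_inv_id_assoc (F.map c.hom) g⟩⟩
    convert h1.comp (hb E hE) using 1
    funext g
    show F.map (c.hom ≫ ModuleCat.ofHom ((AdicCompletion.of I N).rTensor M)) ≫ g = _
    rw [F.map_comp, Category.assoc]
    rfl

end Groth.Agent.H1Compl
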