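import Groth.Agent.H9Misc.DRingAdic
import Groth.Agent.H9Misc.DRingTel
import Groth.Agent.S0551
import Mathlib.RingTheory.AdicCompletion.AsTensorProduct

/-! The adic completion of a flat module is its derived completion. -/

set_option linter.style.haveILetI false

universe u

open CategoryTheory CategoryTheory.Category CategoryTheory.Limits MonoidalCategory
open CategoryTheory.Pretriangulated
open scoped TensorProduct

attribute [local instance] HasDerivedCategory.standard

namespace Groth.Agent.H1Compl

open Groth.Agent.H9Misc Groth.Agent.H9Misc.DRingNakayama Groth.Agent.H9Misc.DRingAdic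

variable {A : Type u} [CommRing A] [IsNoetherianRing A] (I : Ideal A)
  (N : Type u) [AddCommGroup N] [Module A N]

/-- The completion of a flat module over a Noetherian ring is flat. -/
theorem flat_completion [Module.Flat A N] : Module.Flat A (AdicCompletion I N) := by
  haveI : Module.Flat (A ⧸ I) (N ⧸ (I • ⊤ : Submodule A N)) :=
    Module.Flat.of_linearEquiv (M := (A ⧸ I) ⊗[A] N)
      (LinearEquiv.extendScalarsOfSurjective Ideal.Quotient.mk_surjective
        (TensorProduct.quotTensorEquivQuotSMul N I)).symm
  have hT : Function.Injective (TensorProduct.lift ((LinearMap.lsmul A N).comp (Submodule.subtype I))) := by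
    have h : TensorProduct.lift ((LinearMap.lsmul A N).comp (Submodule.subtype I)) =
        (TensorProduct.lid A N).toLinearMap ∘ₗ I.subtype.rTensor N := TensorProduct.ext' fun a x => by simp
    rw [h]
    exact (TensorProduct.lid A N).injective.comp
      (Module.Flat.rTensor_preserves_injective_linearMap _ (Submodule.injective_subtype I))
  haveI := Groth.Agent.S0551.result A I (IsNoetherian.noetherian I) N hT
  haveI : Module.Flat A (AdicCompletion I A) := AdicCompletion.flat_of_isNoetherian I
  exact Module.Flat.trans A (AdicCompletion I A) (AdicCompletion I N)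

/-- `N → N^` as a map of modules. -/
noncomputable abbrev eta : ModuleCat.of A N ⟶ ModuleCat.of A (AdicCompletion I N) :=
  ModuleCat.ofHom (AdicCompletion.of I N)

/-- Reduction modulo the ideal. -/
theorem isIso_rTensor_eta :
    IsIso ((tensorRight (ModuleCat.of A (A ⧸ I))).map (eta I N)) := by
  have hker : (I • ⊤ : Submodule A (AdicCompletion I N)) = LinearMap.ker (AdicCompletion.eval I N 1) := by
    rw [← AdicCompletion.pow_smul_top_eq_ker_eval (IsNoetherian.noetherian I), pow_one]
  refine (ConcreteCategory.isIso_iff_bijective _).2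
    (bijective_rTensor_quotient I (AdicCompletion.of I N) (fun x hx => ?_) fun y => ?_)
  · rw [hker, LinearMap.mem_ker] at hx
    have := (Submodule.Quotient.mk_eq_zero _).1 hx
    simpa using this
  · obtain ⟨x, hx⟩ := Submodule.Quotient.mk_surjective _ (AdicCompletion.eval I N 1 y)
    refine ⟨x, ?_⟩
    rw [hker, LinearMap.mem_ker, map_sub, sub_eq_zero]
    exact hx.symm

theorem isDerivedComplete_completion :
    DRing.IsDerivedComplete I (Dual.inD A (AdicCompletion I N)) :=
  (DRingTel.isDerivedComplete_inD_iff I _).2 fun _ hf =>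
    @TBMod.tbm_of_isAdicComplete _ _ _ _ _ I (AdicCompletion.isAdicComplete (IsNoetherian.noetherian I)) _ hf

/-- For a flat module, maps out of the completion into derived complete objects are maps out of the module. -/
theorem bijective_comp_eta [Module.Flat A N] (E : Dual.D A) (hE : DRing.IsDerivedComplete I E) :
    Function.Bijective fun g : Dual.inD A (AdicCompletion I N) ⟶ E =>
      (DerivedCategory.singleFunctor (ModuleCat.{u} A) 0).map (eta I N) ≫ g := by
  obtain ⟨s, hs⟩ := IsNoetherian.noetherian I
  haveI := flat_completion I N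
  let S := HomologicalComplex.single (ModuleCat.{u} A) (ComplexShape.up ℤ) 0
  let P := CochainComplex.mappingCone (S.map (eta I N))
  have hflat : ∀ n, Module.Flat A (P.X n) := by
    intro n
    have h : ∀ (M : ModuleCat.{u} A), Module.Flat A M → ∀ k, Module.Flat A ((S.obj M).X k) := by
      intro M hM k
      by_cases hk : k = 0
      · subst hk
        exact Module.Flat.of_linearEquiv
          (HomologicalComplex.singleObjXSelf (ComplexShape.up ℤ) 0 M).toLinearEquiv
      · have := ModuleCat.subsingleton_of_isZero
          (HomologicalComplex.isZero_single_obj_X (ComplexShape.up ℤ) 0 M k hk)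
        infer_instance
    exact (KFlatLib.ringCover A).of_iso
      (HomologicalComplex.homotopyCofiber.XIsoBiprod (S.map (eta I N)) n (n + 1) rfl).symm
      ((KFlatLib.ringCover A).biprod _ _ (h _ (inferInstanceAs (Module.Flat A N)) _)
        (h _ (inferInstanceAs (Module.Flat A (AdicCompletion I N))) _))
  have hz : ∀ n, 0 < n → IsZero (P.X n) := fun n hn => by
    refine IsZero.of_iso (biprod_isZero_iff _ _ |>.2
      ⟨HomologicalComplex.isZero_single_obj_X _ _ _ _ (by omega),
        HomologicalComplex.isZero_single_obj_X _ _ _ _ (by omega)⟩)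
      (HomologicalComplex.homotopyCofiber.XIsoBiprod (S.map (eta I N)) n (n + 1) rfl)
  haveI : P.IsStrictlyLE 0 := (CochainComplex.isStrictlyLE_iff _ _).2 hz
  have hK : DRingLTensor.IsKF P :=
    KFlatLib.kFlat_of_isStrictlyLE 0 fun n => KFlatLib.flatObj_ringCover _ (hflat n)
  have hac : ((G P).obj (ModuleCat.of A (A ⧸ I))).Acyclic := by
    let T := tensorRight (ModuleCat.of A (A ⧸ I))
    haveI : IsIso ((T.mapHomologicalComplex (ComplexShape.up ℤ)).map (S.map (eta I N))) := by
      haveI := isIso_rTensor_eta I N
      exact (NatIso.isIso_map_iff (HomologicalComplex.singleMapHomologicalComplex T (ComplexShape.up ℤ) 0)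
        (eta I N)).2 (inferInstanceAs (IsIso ((HomologicalComplex.single (ModuleCat.{u} A) (ComplexShape.up ℤ) 0).map
          (T.map (eta I N)))))
    have hzero : IsZero (DerivedCategory.Q.obj
        (CochainComplex.mappingCone ((T.mapHomologicalComplex (ComplexShape.up ℤ)).map (S.map (eta I N))))) :=
      (Triangle.isZero₃_iff_isIso₁ _ (DerivedCategory.mappingCone_triangle_distinguished _)).2
        (inferInstanceAs (IsIso (DerivedCategory.Q.map ((T.mapHomologicalComplex (ComplexShape.up ℤ)).map (S.map (eta I N))))))
    intro i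
    refine HomologicalComplex.ExactAt.of_iso ?_ (CochainComplex.mappingCone.mapHomologicalComplexIso (S.map (eta I N)) T).symm
    exact (HomologicalComplex.exactAt_iff_isZero_homology _ i).2
      (((DerivedCategory.homologyFunctor (ModuleCat.{u} A) i).map_isZero hzero).of_iso
        ((DerivedCategory.homologyFunctorFactors (ModuleCat.{u} A) i).app _).symm)
  have hl : I ≤ Ideal.ofList (s.toList ++ []) := by
    refine le_of_eq (hs.symm.trans (congrArg Ideal.span ?_))
    ext; simp
  let eρ : (G P).obj (𝟙_ (ModuleCat.{u} A)) ≅ P :=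
    HomologicalComplex.Hom.isoOfComponents (fun m => ρ_ (P.X m))
      (fun i j _ => (MonoidalCategory.rightUnitor_naturality (P.d i j)).symm)
  have ho : LOrth E (DerivedCategory.Q.obj P) :=
    lOrth_of_complete I s.toList (fun f hf => hs ▸ Ideal.subset_span (Finset.mem_toList.1 hf))
      (fun X hX => lOrth_iso (DerivedCategory.Q.mapIso eρ)
        (lOrth_GD I hK hflat hac s.toList [] hl (𝟙_ (ModuleCat.{u} A)) X
          (fun f hf => absurd hf List.not_mem_nil) hX))
      s.toList [] _ (fun f => by simp) hE (fun f hf => absurd hf List.not_mem_nil)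
  have hT := DerivedCategory.mappingCone_triangle_distinguished (S.map (eta I N))
  let z := (shiftFunctorZero (Dual.D A) ℤ).app E
  have hb : Function.Bijective fun g : DerivedCategory.Q.obj (S.obj (ModuleCat.of A (AdicCompletion I N))) ⟶ E =>
      DerivedCategory.Q.map (S.map (eta I N)) ≫ g := by
    constructor
    · intro g g' hg
      refine sub_eq_zero.1 ((cancel_mono z.inv).1 ?_)
      rw [zero_comp]
      refine lOrth_mor₁ _ hT ho (n := 0) ?_
      show DerivedCategory.Q.map (S.map (eta I N)) ≫ ((g - g') ≫ z.inv) = 0
      rw [← assoc, Preadditive.comp_sub, show DerivedCategory.Q.map (S.map (eta I N)) ≫ g =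
        DerivedCategory.Q.map (S.map (eta I N)) ≫ g' from hg, sub_self, zero_comp]
    · intro x
      have hr := inv_rot_of_distTriang _ hT
      obtain ⟨y, hy⟩ := Triangle.yoneda_exact₂ _ hr (x ≫ z.inv) ((lOrth_shift ho (-1) 0).elim _ _)
      refine ⟨y ≫ z.hom, ?_⟩
      dsimp only
      rw [← assoc]
      refine ((congrArg (· ≫ z.hom) hy).symm.trans (assoc _ _ _)).trans ?_
      exact (congrArg (fun k => CategoryStruct.comp x k) z.inv_hom_id).trans (comp_id x)
  have hnat : (KFlatLib.singleQ 0 (ModuleCat.of A N)).hom ≫ DerivedCategory.Q.map (S.map (eta I N)) =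
      (DerivedCategory.singleFunctor (ModuleCat.{u} A) 0).map (eta I N) ≫
        (KFlatLib.singleQ 0 (ModuleCat.of A (AdicCompletion I N))).hom :=
    (((DerivedCategory.singleFunctorIsoCompQ (ModuleCat.{u} A) 0)).hom.naturality (eta I N)).symm
  refine ⟨fun g g' h => ?_, fun x => ?_⟩
  · rw [← cancel_epi (KFlatLib.singleQ 0 (ModuleCat.of A (AdicCompletion I N))).inv]
    refine hb.1 ((cancel_epi (KFlatLib.singleQ 0 (ModuleCat.of A N)).hom).1 ?_)
    simp only [reassoc_of% hnat, Iso.hom_inv_id_assoc]
    exact h
  · obtain ⟨g, hg⟩ := hb.2 ((KFlatLib.singleQ 0 (ModuleCat.of A N)).inv ≫ x)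
    refine ⟨(KFlatLib.singleQ 0 (ModuleCat.of A (AdicCompletion I N))).hom ≫ g, ?_⟩
    dsimp only at hg ⊢
    rw [← assoc, ← hnat, assoc, hg, Iso.hom_inv_id_assoc]

end Groth.Agent.H1Compl
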