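import Groth.Agent.H1Compl.Tensor
import Groth.Agent.S7050

/-! Reflection of complexes by the completion of the ring. -/

set_option linter.style.haveILetI false

universe u

open CategoryTheory CategoryTheory.Category CategoryTheory.Limits MonoidalCategory
open CategoryTheory.Pretriangulated
open scoped TensorProduct

attribute [local instance] HasDerivedCategory.standard

namespace Groth.Agent.H1Compl

open Groth.Agent.H9Misc Groth.Agent.H9Misc.DRingNakayama Groth.Agent.H9Misc.DRingAdic

variable {A : Type u} [CommRing A] {P : CochainComplex (ModuleCat.{u} A) ℤ}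

/-- Complexes killed by `- ⊗ A/I` do not map to `I`-torsion objects. -/
lemma lOrth_GD' (I : Ideal A) (hflat : ∀ n, Module.Flat A (P.X n))
    (h : ∀ N : ModuleCat.{u} A, (∀ f ∈ I, ∀ x : N, f • x = 0) → IsZero ((GD P).obj N)) :
    ∀ (l₁ l₂ : List A), I ≤ Ideal.ofList (l₁ ++ l₂) → ∀ (N : ModuleCat.{u} A) (X : Dual.D A),
      (∀ f ∈ l₂, ∀ x : N, f • x = 0) → Tors l₁ X → LOrth X ((GD P).obj N) := by
  intro l₁
  induction l₁ with
  | nil =>
    intro l₂ hI N X hN _ n
    have hz : IsZero ((GD P).obj N) := h N fun f hf x => by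
      refine Submodule.mem_annihilator.1 (?_ : f ∈ (⊤ : Submodule A N).annihilator) x trivial
      refine (Ideal.span_le.2 fun g hg => ?_) (hI hf)
      exact Submodule.mem_annihilator.2 fun y _ => hN g hg y
    exact ⟨fun a b => hz.eq_of_src a b⟩
  | cons f l₁ ih =>
    intro l₂ hI N X hN hX
    have hI' : I ≤ Ideal.ofList (l₁ ++ f :: l₂) := hI.trans (le_of_eq (congrArg Ideal.span (by
      ext; simp only [List.mem_append, List.mem_cons, Set.mem_ofPred_eq]; tauto)))
    have hX' : Tors l₁ X := fun g hg => hX g (List.mem_cons_of_mem _ hg)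
    let m : N →ₗ[A] N := f • LinearMap.id
    let R := LinearMap.range m
    let S₁ : ShortComplex (ModuleCat.{u} A) :=
      ShortComplex.mk (ModuleCat.ofHom (LinearMap.ker m).subtype) (ModuleCat.ofHom m.rangeRestrict)
        (ModuleCat.hom_ext (LinearMap.ext fun x => Subtype.ext x.2))
    let S₂ : ShortComplex (ModuleCat.{u} A) :=
      ShortComplex.mk (ModuleCat.ofHom R.subtype) (ModuleCat.ofHom R.mkQ)
        (ModuleCat.hom_ext (LinearMap.ext fun x => (Submodule.Quotient.mk_eq_zero _).2 x.2))
    have h₁ : S₁.ShortExact :=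
      { exact := (ShortComplex.ShortExact.moduleCat_exact_iff_function_exact _).2 fun y =>
          ⟨fun hy => ⟨⟨y, congrArg Subtype.val hy⟩, rfl⟩, by rintro ⟨x, rfl⟩; exact Subtype.ext x.2⟩
        mono_f := (ModuleCat.mono_iff_injective _).2 Subtype.val_injective
        epi_g := (ModuleCat.epi_iff_surjective _).2 m.surjective_rangeRestrict }
    have h₂ : S₂.ShortExact :=
      { exact := (ShortComplex.ShortExact.moduleCat_exact_iff_function_exact _).2 fun y =>
          ⟨fun hy => ⟨⟨y, (Submodule.Quotient.mk_eq_zero _).1 hy⟩, rfl⟩, by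
            rintro ⟨x, rfl⟩; exact (Submodule.Quotient.mk_eq_zero _).2 x.2⟩
        mono_f := (ModuleCat.mono_iff_injective _).2 Subtype.val_injective
        epi_g := (ModuleCat.epi_iff_surjective _).2 R.mkQ_surjective }
    have o₁ : LOrth X ((GD P).obj S₁.X₁) := ih (f :: l₂) hI' _ _ (fun g hg x => by
      rcases List.mem_cons.1 hg with rfl | hg
      · exact Subtype.ext x.2
      · exact Subtype.ext (hN g hg x.1)) hX'
    have o₃ : LOrth X ((GD P).obj S₂.X₃) := ih (f :: l₂) hI' _ _ (fun g hg x => by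
      obtain ⟨x, rfl⟩ := R.mkQ_surjective x
      change g • Submodule.Quotient.mk x = (0 : N ⧸ R)
      rw [← Submodule.Quotient.mk_smul, Submodule.Quotient.mk_eq_zero]
      rcases List.mem_cons.1 hg with rfl | hg
      · exact ⟨x, rfl⟩
      · rw [hN g hg x]; exact R.zero_mem) hX'
    have hS₁ := shortExact_map P hflat h₁
    have hS₂ := shortExact_map P hflat h₂
    have hT₁ := DerivedCategory.triangleOfSES_distinguished hS₁
    have hT₂ := DerivedCategory.triangleOfSES_distinguished hS₂
    have key : ∀ {n : ℤ} (g : (GD P).obj N ⟶ X⟦n⟧), f • g = 0 → g = 0 := by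
      intro n g hg
      refine lOrth_mor₁ _ hT₂ o₃ (g := g) ?_
      refine mor₂_injective _ hT₁ o₁ (n := n) ?_
      show (GD P).map S₁.g ≫ (GD P).map S₂.f ≫ g = 0
      rw [← assoc, ← (GD P).map_comp]
      have hm : S₁.g ≫ S₂.f = f • 𝟙 N := rfl
      rw [hm, Functor.map_smul, CategoryTheory.Functor.map_id, Linear.smul_comp, id_comp]
      exact hg
    intro n
    obtain ⟨k, hk⟩ := hX f List.mem_cons_self
    refine subsingleton_of_forall_eq 0 fun g => ?_
    have hg : f ^ k • g = 0 := smul_hom_eq_zero (smul_shift_eq_zero hk n) g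
    clear hk
    induction k with
    | zero => simpa using hg
    | succ k ihk =>
      refine ihk (key _ ?_)
      rw [smul_smul, ← pow_succ']
      exact hg


/-- A termwise flat cone killed by all torsion modules gives a reflection. -/
theorem preBij_of_cone (I : Ideal A) (hI : I.FG) {P Q : CochainComplex (ModuleCat.{u} A) ℤ} (φ : P ⟶ Q)
    (hP : ∀ n, Module.Flat A (P.X n)) (hQ : ∀ n, Module.Flat A (Q.X n))
    (h : ∀ N : ModuleCat.{u} A, (∀ f ∈ I, ∀ x : N, f • x = 0) → IsIso ((DRingLTensor.tensC N).map φ)) :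
    PreBij I (DerivedCategory.Q.map φ) := by
  intro E hE
  obtain ⟨s, hs⟩ := hI
  let C := CochainComplex.mappingCone φ
  have hflat : ∀ n, Module.Flat A (C.X n) := fun n =>
    (KFlatLib.ringCover A).of_iso (HomologicalComplex.homotopyCofiber.XIsoBiprod φ n (n + 1) rfl).symm
      ((KFlatLib.ringCover A).biprod _ _ (hP _) (hQ _))
  have hz : ∀ N : ModuleCat.{u} A, (∀ f ∈ I, ∀ x : N, f • x = 0) → IsZero ((GD C).obj N) := fun N hN => by
    let T := tensorRight N
    haveI : IsIso ((T.mapHomologicalComplex (ComplexShape.up ℤ)).map φ) := h N hN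
    have hzero : IsZero (DerivedCategory.Q.obj
        (CochainComplex.mappingCone ((T.mapHomologicalComplex (ComplexShape.up ℤ)).map φ))) :=
      (Triangle.isZero₃_iff_isIso₁ _ (DerivedCategory.mappingCone_triangle_distinguished _)).2
        (Functor.map_isIso DerivedCategory.Q ((T.mapHomologicalComplex (ComplexShape.up ℤ)).map φ))
    exact hzero.of_iso (DerivedCategory.Q.mapIso (CochainComplex.mappingCone.mapHomologicalComplexIso φ T))
  have hl : I ≤ Ideal.ofList (s.toList ++ []) := by
    refine le_of_eq (hs.symm.trans (congrArg Ideal.span ?_))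
    ext; simp
  let eρ : (G C).obj (𝟙_ (ModuleCat.{u} A)) ≅ C :=
    HomologicalComplex.Hom.isoOfComponents (fun m => ρ_ (C.X m))
      (fun i j _ => (MonoidalCategory.rightUnitor_naturality (C.d i j)).symm)
  have ho : LOrth E (DerivedCategory.Q.obj C) :=
    lOrth_of_complete I s.toList (fun f hf => hs ▸ Ideal.subset_span (Finset.mem_toList.1 hf))
      (fun X hX => lOrth_iso (DerivedCategory.Q.mapIso eρ)
        (lOrth_GD' I hflat hz s.toList [] hl (𝟙_ (ModuleCat.{u} A)) X
          (fun f hf => absurd hf List.not_mem_nil) hX))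
      s.toList [] _ (fun f => by simp) hE (fun f hf => absurd hf List.not_mem_nil)
  have hT := DerivedCategory.mappingCone_triangle_distinguished φ
  let z := (shiftFunctorZero (Dual.D A) ℤ).app E
  constructor
  · intro g g' hg
    refine sub_eq_zero.1 ((cancel_mono z.inv).1 ?_)
    rw [zero_comp]
    refine lOrth_mor₁ _ hT ho (n := 0) ?_
    show DerivedCategory.Q.map φ ≫ ((g - g') ≫ z.inv) = 0
    rw [← assoc, Preadditive.comp_sub, show DerivedCategory.Q.map φ ≫ g =
      DerivedCategory.Q.map φ ≫ g' from hg, sub_self, zero_comp]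
  · intro x
    have hr := inv_rot_of_distTriang _ hT
    obtain ⟨y, hy⟩ := Triangle.yoneda_exact₂ _ hr (x ≫ z.inv) ((lOrth_shift ho (-1) 0).elim _ _)
    refine ⟨y ≫ z.hom, ?_⟩
    dsimp only
    rw [← assoc]
    refine ((congrArg (· ≫ z.hom) hy).symm.trans (assoc _ _ _)).trans ?_
    exact (congrArg (fun k => CategoryStruct.comp x k) z.inv_hom_id).trans (comp_id x)

/-- The natural map into the tensor product with the completion. -/
noncomputable def etaNat (I : Ideal A) :
    𝟭 (ModuleCat.{u} A) ⟶ tensorRight (ModuleCat.of A (AdicCompletion I A)) where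
  app M := (ρ_ M).inv ≫ M ◁ (eta I A : 𝟙_ (ModuleCat.{u} A) ⟶ ModuleCat.of A (AdicCompletion I A))
  naturality M M' f := by
    dsimp
    rw [MonoidalCategory.rightUnitor_inv_naturality_assoc, Category.assoc, whisker_exchange]

variable [IsNoetherianRing A]

/-- Tensoring with a module killed by the ideal inverts the map to the completion. -/
theorem isIso_etaNat_tensor (I : Ideal A) (M N : ModuleCat.{u} A) (hN : ∀ f ∈ I, ∀ x : N, f • x = 0) :
    IsIso ((tensorRight N).map ((etaNat I).app M)) := by
  let η₀ : 𝟙_ (ModuleCat.{u} A) ⟶ ModuleCat.of A (AdicCompletion I A) := eta I A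
  haveI : IsIso (η₀ ▷ ModuleCat.of A (A ⧸ I)) := isIso_rTensor_eta I A
  have hbot : (I • ⊤ : Submodule A N) = ⊥ :=
    eq_bot_iff.2 (Submodule.smul_le.2 fun r hr x _ => (Submodule.mem_bot A).2 (hN r hr x))
  let e : ModuleCat.of A (A ⧸ I) ⊗ N ≅ N :=
    ((TensorProduct.quotTensorEquivQuotSMul N I).trans (Submodule.quotEquivOfEqBot _ hbot)).toModuleIso
  haveI h1 : IsIso (η₀ ▷ (ModuleCat.of A (A ⧸ I) ⊗ N)) := by
    rw [show η₀ ▷ (ModuleCat.of A (A ⧸ I) ⊗ N) = (α_ _ _ _).inv ≫ (η₀ ▷ ModuleCat.of A (A ⧸ I)) ▷ N ≫ (α_ _ _ _).hom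
      by simp]
    infer_instance
  haveI h2 : IsIso (η₀ ▷ N) := by
    rw [show η₀ ▷ N = _ ◁ e.inv ≫ η₀ ▷ (ModuleCat.of A (A ⧸ I) ⊗ N) ≫ _ ◁ e.hom
      by rw [← whisker_exchange, ← whiskerLeft_comp_assoc, e.inv_hom_id, whiskerLeft_id, id_comp]]
    infer_instance
  show IsIso (((ρ_ M).inv ≫ M ◁ η₀) ▷ N)
  rw [comp_whiskerRight, whisker_assoc]
  infer_instance

/-- Completion of a complex of flat modules. -/
theorem preBij_etaNat (I : Ideal A) (P : CochainComplex (ModuleCat.{u} A) ℤ) (hP : ∀ n, Module.Flat A (P.X n)) :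
    PreBij I (DerivedCategory.Q.map ((NatTrans.mapHomologicalComplex (etaNat I) (ComplexShape.up ℤ)).app P)) := by
  haveI : Module.Flat A (AdicCompletion I A) := AdicCompletion.flat_of_isNoetherian I
  refine preBij_of_cone I (IsNoetherian.noetherian I) _ hP (fun n => ?_) fun N hN => ?_
  · haveI := hP n
    exact inferInstanceAs (Module.Flat A (P.X n ⊗[A] AdicCompletion I A))
  · haveI : ∀ n, IsIso (((DRingLTensor.tensC N).map
        ((NatTrans.mapHomologicalComplex (etaNat I) (ComplexShape.up ℤ)).app P)).f n) :=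
      fun n => isIso_etaNat_tensor I (P.X n) N hN
    exact HomologicalComplex.Hom.isIso_of_components _

/-- A natural map to an exact functor acts on homology componentwise. -/
theorem homologyMap_natTrans {C : Type*} [Category C] [Abelian C] (F : C ⥤ C) [F.Additive]
    [PreservesFiniteLimits F] [PreservesFiniteColimits F] (τ : 𝟭 C ⟶ F) (S : ShortComplex C) :
    τ.app S.homology = ShortComplex.homologyMap (S.mapNatTrans τ) ≫ (S.mapHomologyIso F).hom := by
  have h : (S.mapHomologyIso (𝟭 C)).inv = 𝟙 S.homology := by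
    rw [← cancel_epi S.homologyπ]
    rw [S.leftHomologyData.mapHomologyIso_eq (𝟭 C)]
    let d : S.LeftHomologyData := S.leftHomologyData.map (𝟭 C)
    show S.homologyπ ≫ S.leftHomologyData.homologyIso.hom ≫ d.homologyIso.inv = S.homologyπ ≫ 𝟙 S.homology
    have hc : d.cyclesIso.inv = S.leftHomologyData.cyclesIso.inv := by
      exact (cancel_mono S.iCycles).1 (d.cyclesIso_inv_comp_iCycles.trans
        S.leftHomologyData.cyclesIso_inv_comp_iCycles.symm)
    rw [ShortComplex.LeftHomologyData.homologyπ_comp_homologyIso_hom_assoc, comp_id]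
    refine (congrArg (S.leftHomologyData.cyclesIso.hom ≫ ·) d.π_comp_homologyIso_inv).trans ?_
    exact ((congrArg (fun k => S.leftHomologyData.cyclesIso.hom ≫ k ≫ S.homologyπ) hc)).trans
      (Iso.hom_inv_id_assoc _ _)
  rw [NatTrans.app_homology τ S, h]
  exact id_comp _

/-- The derived completion computed on homology. -/
theorem derivedCompletion_finite (I : Ideal A) [DRing.HasDerivedCompletion I] (K : Dual.D A)
    (hK : ∀ n : ℤ, Module.Finite A (Dual.HD A K n)) (n : ℤ) :
    ∃ e : Dual.HD A ((DRing.derivedCompletion I).obj K).obj n ≃ₗ[A] AdicCompletion I (Dual.HD A K n),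
      ∀ x : Dual.HD A K n,
        e (((DerivedCategory.homologyFunctor (ModuleCat.{u} A) n).map (DRing.toDerivedCompletion I K)).hom x) =
          AdicCompletion.of I (Dual.HD A K n) x := by
  obtain ⟨P, -, hflat, ⟨eP⟩⟩ := DRingLTensor.exists_rep K
  haveI : Module.Flat A (AdicCompletion I A) := AdicCompletion.flat_of_isNoetherian I
  let F := tensorRight (ModuleCat.of A (AdicCompletion I A))
  haveI : Module.Flat A (ModuleCat.of A (AdicCompletion I A)) := AdicCompletion.flat_of_isNoetherian I
  let φ := (NatTrans.mapHomologicalComplex (etaNat I) (ComplexShape.up ℤ)).app P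
  let Y := DerivedCategory.Q.obj ((F.mapHomologicalComplex (ComplexShape.up ℤ)).obj P)
  let η' : K ⟶ Y := eP.inv ≫ DerivedCategory.Q.map φ
  let H := fun i => DerivedCategory.homologyFunctor (ModuleCat.{u} A) i
  let fac := fun i => DerivedCategory.homologyFunctorFactors (ModuleCat.{u} A) i
  let hm : ∀ i, (H i).obj K ≅ P.homology i := fun i => (H i).mapIso eP.symm ≪≫ (fac i).app P
  haveI : ∀ i, Module.Finite A (P.homology i) := fun i => haveI := hK i; Module.Finite.equiv (hm i).toLinearEquiv
  let J : ∀ i, (H i).obj Y ≅ F.obj (P.homology i) := fun i =>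
    (fac i).app ((F.mapHomologicalComplex (ComplexShape.up ℤ)).obj P) ≪≫ (P.sc i).mapHomologyIso F
  let c : ∀ M : ModuleCat.{u} A, [Module.Finite A M] → (F.obj M ≃ₗ[A] AdicCompletion I M) := fun M _ =>
    (TensorProduct.comm A M (AdicCompletion I A)).trans
      (LinearEquiv.ofBijective ((AdicCompletion.ofTensorProduct I M).restrictScalars A)
        (AdicCompletion.ofTensorProduct_bijective_of_finite_of_isNoetherian I M))
  have hc : ∀ (M : ModuleCat.{u} A) [Module.Finite A M] (x : M), c M ((etaNat I).app M x) = AdicCompletion.of I M x := by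
    intro M _ x
    show AdicCompletion.ofTensorProduct I M ((AdicCompletion.of I A 1) ⊗ₜ[A] x) = _
    rw [AdicCompletion.ofTensorProduct_tmul]
    exact one_smul _ _
  have hY : DRing.IsDerivedComplete I Y := by
    refine (Groth.Agent.S7050.result I Y).2 fun i => ?_
    refine (DRingTel.isDerivedComplete_inD_iff I _).2 fun f hf => ?_
    exact ((DRingTel.isDerivedComplete_inD_iff I _).1 (isDerivedComplete_completion I (P.homology i)) f hf).of_equiv
      ((J i).toLinearEquiv.trans (c (P.homology i))).symm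
  obtain ⟨θ, hθ⟩ := exists_reflection_iso I (DRing.toDerivedCompletion I K) η'
    ((DRing.derivedCompletion I).obj K).property hY (preBij_toDerivedCompletion I K) fun E hE => by
      have hb := preBij_etaNat I P hflat E hE
      refine ⟨fun g g' hg => hb.1 ((cancel_epi eP.inv).1 ((assoc _ _ _).symm.trans (hg.trans (assoc _ _ _)))), fun g => ?_⟩
      obtain ⟨y, hy⟩ := hb.2 (eP.hom ≫ g)
      exact ⟨y, (assoc _ _ _).trans ((congrArg (eP.inv ≫ ·) hy).trans (eP.inv_hom_id_assoc g))⟩
  haveI := hK n
  refine ⟨((H n).mapIso θ ≪≫ J n).toLinearEquiv.trans ((c (P.homology n)).trans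
    ((AdicCompletion.congr I (hm n).toLinearEquiv).restrictScalars A).symm), fun x => ?_⟩
  have h : (H n).map (DRing.toDerivedCompletion I K) ≫ ((H n).mapIso θ ≪≫ J n).hom =
      (hm n).hom ≫ (etaNat I).app (P.homology n) := by
    rw [show (etaNat I).app (P.homology n) = _ from homologyMap_natTrans F (etaNat I) (P.sc n)]
    rw [Iso.trans_hom, Functor.mapIso_hom, ← Functor.map_comp_assoc, hθ]
    show (H n).map (eP.inv ≫ DerivedCategory.Q.map φ) ≫ ((fac n).hom.app _ ≫ ((P.sc n).mapHomologyIso F).hom) =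
      ((H n).map eP.inv ≫ (fac n).hom.app P) ≫ HomologicalComplex.homologyMap φ n ≫ ((P.sc n).mapHomologyIso F).hom
    rw [Functor.map_comp, assoc, assoc]
    exact congrArg ((H n).map eP.inv ≫ ·) ((fac n).hom.naturality_assoc φ _)
  have hx := ConcreteCategory.congr_hom h x
  rw [LinearEquiv.trans_apply, LinearEquiv.trans_apply, LinearEquiv.symm_apply_eq]
  refine (congrArg (c (P.homology n)) hx).trans ((hc _ _).trans ?_)
  exact (AdicCompletion.map_of I _ x).symm

end Groth.Agent.H1Compl
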