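import Groth.Agent.H1Compl.FlatRefl
import Groth.Agent.H9Misc.DRingComplTensor
import Groth.Agent.H9Misc.DRingPCModule
import Groth.Agent.H9Misc.DRingTor

/-! Derived completion of a flat module tensored with a finite module. -/

set_option linter.style.haveILetI false

universe u

open CategoryTheory CategoryTheory.Category CategoryTheory.Limits MonoidalCategory
open CategoryTheory.Pretriangulated
open scoped TensorProduct

attribute [local instance] HasDerivedCategory.standard

namespace Groth.Agent.H1Compl

open Groth.Agent.H9Misc Groth.Agent.H9Misc.DRingLTensor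

variable {A : Type u} [CommRing A]

/-- Precomposition with `η` is bijective for maps into derived complete objects. -/
def PreBij (I : Ideal A) {X Y : Dual.D A} (η : X ⟶ Y) : Prop :=
  ∀ E : Dual.D A, DRing.IsDerivedComplete I E → Function.Bijective fun g : Y ⟶ E => η ≫ g

theorem exists_reflection_iso (I : Ideal A) {X Y Y' : Dual.D A} (η : X ⟶ Y) (η' : X ⟶ Y')
    (hY : DRing.IsDerivedComplete I Y) (hY' : DRing.IsDerivedComplete I Y')
    (h : PreBij I η) (h' : PreBij I η') : ∃ θ : Y ≅ Y', η ≫ θ.hom = η' := by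
  obtain ⟨a, ha⟩ := (h Y' hY').2 η'
  obtain ⟨b, hb⟩ := (h' Y hY).2 η
  dsimp only at ha hb
  exact ⟨⟨a, b, (h Y hY).1 (by dsimp only; rw [← Category.assoc, ha, hb, Category.comp_id]),
    (h' Y' hY').1 (by dsimp only; rw [← Category.assoc, hb, ha, Category.comp_id])⟩, ha⟩

theorem preBij_toDerivedCompletion (I : Ideal A) [DRing.HasDerivedCompletion I] (K : Dual.D A) :
    PreBij I (DRing.toDerivedCompletion I K) := fun E hE => by
  let Z' : DRing.DComp I := ⟨E, hE⟩
  let e := (DRing.derivedCompletionAdj I).homEquiv K Z'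
  have he : ∀ g : (DRing.derivedCompletion I).obj K ⟶ Z', e g = DRing.toDerivedCompletion I K ≫ g.hom :=
    fun g => Adjunction.homEquiv_unit ..
  exact ⟨fun g g' h => congrArg (fun k => k.hom) (e.injective ((he ⟨g⟩).trans (h.trans (he ⟨g'⟩).symm))),
    fun g => ⟨(e.symm g).hom, (he _).symm.trans (e.apply_symm_apply g)⟩⟩


/-- The derived tensor product of flat modules with `M`, naturally. -/
theorem exists_square (M : ModuleCat.{u} A) [DRing.HasLTensor A M] {N N' : ModuleCat.{u} A}
    [Module.Flat A N] [Module.Flat A N'] (f : N ⟶ N') :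
    ∃ (e : (DRing.LTensor A M).obj ((DerivedCategory.singleFunctor (ModuleCat.{u} A) 0).obj N) ≅ (DerivedCategory.singleFunctor (ModuleCat.{u} A) 0).obj ((tensorRight M).obj N))
      (e' : (DRing.LTensor A M).obj ((DerivedCategory.singleFunctor (ModuleCat.{u} A) 0).obj N') ≅ (DerivedCategory.singleFunctor (ModuleCat.{u} A) 0).obj ((tensorRight M).obj N')),
      (DRing.LTensor A M).map ((DerivedCategory.singleFunctor (ModuleCat.{u} A) 0).map f) ≫ e'.hom = e.hom ≫ (DerivedCategory.singleFunctor (ModuleCat.{u} A) 0).map ((tensorRight M).map f) := by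
  let S := HomologicalComplex.single (ModuleCat.{u} A) (ComplexShape.up ℤ) 0
  let q := HomotopyCategory.quotient (ModuleCat.{u} A) (ComplexShape.up ℤ)
  let iQ := DerivedCategory.quotientCompQhIso (ModuleCat.{u} A)
  let τ := Functor.whiskerLeft q ((DRing.tensorKh A M).totalLeftDerivedCounit DerivedCategory.Qh
    (HomotopyCategory.quasiIso (ModuleCat.{u} A) (ComplexShape.up ℤ)))
  let sQ := DerivedCategory.singleFunctorIsoCompQ (ModuleCat.{u} A) 0
  let σ := HomologicalComplex.singleMapHomologicalComplex (tensorRight M) (ComplexShape.up ℤ) 0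
  have hkf : ∀ P : ModuleCat.{u} A, Module.Flat A P → IsKF (S.obj P) := fun P hP => by
    refine DRingTor.isKF_of_flat (b := 0) (fun i => ?_)
      (fun i hi => HomologicalComplex.isZero_single_obj_X (ComplexShape.up ℤ) 0 P i (by omega))
    by_cases hi : i = 0
    · subst hi
      exact Module.Flat.of_linearEquiv (HomologicalComplex.singleObjXSelf (ComplexShape.up ℤ) 0 P).toLinearEquiv
    · have := ModuleCat.subsingleton_of_isZero
        (HomologicalComplex.isZero_single_obj_X (ComplexShape.up ℤ) 0 P i hi)
      infer_instance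
  have hiso : ∀ P : ModuleCat.{u} A, Module.Flat A P → IsIso (τ.app (S.obj P)) := fun P hP =>
    (resTensor M).isIso_totalLeftDerivedCounit' DerivedCategory.Q DerivedCategory.Qh q
      (HomologicalComplex.homotopyEquivalences (ModuleCat.{u} A) (ComplexShape.up ℤ)) iQ _ (hkf P hP)
  haveI := hiso N inferInstance
  haveI := hiso N' inferInstance
  let e : ∀ (P : ModuleCat.{u} A) [IsIso (τ.app (S.obj P))],
      (DRing.LTensor A M).obj ((DerivedCategory.singleFunctor (ModuleCat.{u} A) 0).obj P) ≅ (DerivedCategory.singleFunctor (ModuleCat.{u} A) 0).obj ((tensorRight M).obj P) := fun P _ =>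
    (DRing.LTensor A M).mapIso (sQ.app P) ≪≫ (DRing.LTensor A M).mapIso (iQ.app (S.obj P)).symm ≪≫
      asIso (τ.app (S.obj P)) ≪≫ (tensQIso M).app (S.obj P) ≪≫ DerivedCategory.Q.mapIso (σ.app P) ≪≫
      (sQ.app ((tensorRight M).obj P)).symm
  refine ⟨e N, e N', ?_⟩
  have n1 : (DRing.LTensor A M).map ((DerivedCategory.singleFunctor (ModuleCat.{u} A) 0).map f) ≫ (DRing.LTensor A M).map (sQ.hom.app N') =
      (DRing.LTensor A M).map (sQ.hom.app N) ≫ (DRing.LTensor A M).map (DerivedCategory.Q.map (S.map f)) := by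
    rw [← Functor.map_comp, ← Functor.map_comp]
    exact congrArg _ (sQ.hom.naturality f)
  have n2 : (DRing.LTensor A M).map (DerivedCategory.Q.map (S.map f)) ≫ (DRing.LTensor A M).map (iQ.inv.app (S.obj N')) =
      (DRing.LTensor A M).map (iQ.inv.app (S.obj N)) ≫
        (DRing.LTensor A M).map (DerivedCategory.Qh.map (q.map (S.map f))) := by
    rw [← Functor.map_comp, ← Functor.map_comp]
    exact congrArg _ (iQ.inv.naturality (S.map f))
  have n3 : (DRing.LTensor A M).map (DerivedCategory.Qh.map (q.map (S.map f))) ≫ τ.app (S.obj N') =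
      τ.app (S.obj N) ≫ (DRing.tensorKh A M).map (q.map (S.map f)) := τ.naturality (S.map f)
  have n4 : (DRing.tensorKh A M).map (q.map (S.map f)) ≫ (tensQIso M).hom.app (S.obj N') =
      (tensQIso M).hom.app (S.obj N) ≫ DerivedCategory.Q.map ((tensC M).map (S.map f)) :=
    (tensQIso M).hom.naturality (S.map f)
  have n5 : DerivedCategory.Q.map ((tensC M).map (S.map f)) ≫ DerivedCategory.Q.map (σ.hom.app N') =
      DerivedCategory.Q.map (σ.hom.app N) ≫ DerivedCategory.Q.map (S.map ((tensorRight M).map f)) := by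
    rw [← Functor.map_comp, ← Functor.map_comp]
    exact congrArg _ (σ.hom.naturality f)
  have n6 : DerivedCategory.Q.map (S.map ((tensorRight M).map f)) ≫ sQ.inv.app ((tensorRight M).obj N') =
      sQ.inv.app ((tensorRight M).obj N) ≫ (DerivedCategory.singleFunctor (ModuleCat.{u} A) 0).map ((tensorRight M).map f) :=
    sQ.inv.naturality ((tensorRight M).map f)
  exact DRingComplTensor.sq_comp n1 (DRingComplTensor.sq_comp n2 (DRingComplTensor.sq_comp n3
    (DRingComplTensor.sq_comp n4 (DRingComplTensor.sq_comp n5 n6))))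

variable [IsNoetherianRing A] (I : Ideal A) [DRing.HasDerivedCompletion I]

/-- `N^ ⊗ M` is the derived completion of `N ⊗ M`. -/
theorem tensor_completion (N : Type u) [AddCommGroup N] [Module A N] [Module.Flat A N]
    (M : Type u) [AddCommGroup M] [Module A M] [Module.Finite A M] :
    DRing.IsDerivedComplete I (Dual.inD A (AdicCompletion I N ⊗[A] M)) ∧
      PreBij I ((DerivedCategory.singleFunctor (ModuleCat.{u} A) 0).map (ModuleCat.ofHom ((AdicCompletion.of I N).rTensor M) :
        ModuleCat.of A (N ⊗[A] M) ⟶ ModuleCat.of A (AdicCompletion I N ⊗[A] M))) := by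
  haveI := flat_completion I N
  haveI : Module.Flat A (ModuleCat.of A N) := ‹Module.Flat A N›
  haveI : Module.Flat A (ModuleCat.of A (AdicCompletion I N)) := flat_completion I N
  obtain ⟨θ, hθ⟩ := exists_reflection_iso I (DRing.toDerivedCompletion I (Dual.inD A N))
    ((DerivedCategory.singleFunctor (ModuleCat.{u} A) 0).map (eta I N)) ((DRing.derivedCompletion I).obj (Dual.inD A N)).property
    (isDerivedComplete_completion I N) (preBij_toDerivedCompletion I _) (bijective_comp_eta I N)
  haveI := DRingTor.hasLTensor (ModuleCat.of A M)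
  obtain ⟨hc, hb⟩ := DRingComplTensor.ltensor I (ModuleCat.of A M) (Triage.NoethPC.pc' M) (Dual.inD A N) 0
    (fun i hi => DRingTel.subsingleton_homology_inD N (by omega))
  obtain ⟨e, e', he⟩ := exists_square (ModuleCat.of A M) (eta I N)
  refine DRingComplTensor.transport I _ _ e ((DRing.LTensor A (ModuleCat.of A M)).mapIso θ ≪≫ e') ?_ hc hb
  rw [Iso.trans_hom, Functor.mapIso_hom, ← Category.assoc, ← Functor.map_comp, hθ]
  exact he

end Groth.Agent.H1Compl
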